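import Groth.Prelude.Def_W4c5qcohlocdualityLoc
import Mathlib.CategoryTheory.Abelian.GrothendieckCategory.Subobject
import Mathlib.CategoryTheory.Abelian.GrothendieckCategory.EnoughInjectives
import Mathlib.CategoryTheory.Abelian.Subobject
import Mathlib.CategoryTheory.Abelian.Refinements

set_option autoImplicit false
universe w v u
open CategoryTheory CategoryTheory.Limits
open scoped ZeroObject

namespace Groth.Agent.GabClosed

variable {C : Type u} [Category.{v} C] [Abelian C] {M E : C} (ι₀ : M ⟶ E)

/-- objects all of whose subobjects have no maps to `M` and for which maps to `E/M` lift to `E` -/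
def tors : ObjectProperty C := fun Y =>
  ∀ ⦃B : C⦄ (i : B ⟶ Y), Mono i →
    (∀ f : B ⟶ M, f = 0) ∧ ∀ f : B ⟶ cokernel ι₀, ∃ s : B ⟶ E, s ≫ cokernel.π ι₀ = f

lemma lift_unique [Mono ι₀] {B : C} (hB : ∀ f : B ⟶ M, f = 0) (s t : B ⟶ E)
    (h : s ≫ cokernel.π ι₀ = t ≫ cokernel.π ι₀) : s = t := by
  have h0 : (s - t) ≫ cokernel.π ι₀ = 0 := by rw [Preadditive.sub_comp, h, sub_self]
  have := Abelian.monoLift_comp ι₀ (s - t) h0
  rw [hB (Abelian.monoLift ι₀ (s - t) h0), zero_comp] at this
  exact sub_eq_zero.1 this.symm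

lemma tors_mono {X Y : C} (i : X ⟶ Y) [Mono i] (h : tors ι₀ Y) : tors ι₀ X :=
  fun _ j _ => h (j ≫ i) (mono_comp _ _)

lemma tors_epi [Mono ι₀] {X Y : C} (p : X ⟶ Y) [Epi p] (h : tors ι₀ X) : tors ι₀ Y := by
  intro B i _
  let q : pullback p i ⟶ B := pullback.snd p i
  have hB := h (pullback.fst p i) inferInstance
  refine ⟨fun f => ?_, fun f => ?_⟩
  · rw [← cancel_epi q, comp_zero]; exact hB.1 _
  · obtain ⟨s, hs⟩ := hB.2 (q ≫ f)
    have hk : kernel.ι q ≫ s = 0 :=
      lift_unique ι₀ (h (kernel.ι q ≫ pullback.fst p i) (mono_comp _ _)).1 _ _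
        (by rw [Category.assoc, hs, ← Category.assoc, kernel.condition, zero_comp, zero_comp])
    refine ⟨(Abelian.epiDesc q s hk), ?_⟩
    rw [← cancel_epi q, ← Category.assoc, Abelian.comp_epiDesc, hs]

lemma tors_ext [Mono ι₀] [Injective E] {S : ShortComplex C} (hS : S.ShortExact)
    (h₁ : tors ι₀ S.X₁) (h₃ : tors ι₀ S.X₃) : tors ι₀ S.X₂ := by
  haveI := hS.mono_f
  intro B i _
  let r : B ⟶ S.X₃ := i ≫ S.g
  haveI : Mono S.f := hS.mono_f
  let k : kernel r ⟶ S.X₁ := hS.exact.lift (kernel.ι r ≫ i) (by simp [r])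
  have hk : Mono k := mono_of_mono_fac (show k ≫ S.f = kernel.ι r ≫ i from hS.exact.lift_f _ _)
  have hA := h₁ k hk
  let m : cokernel (kernel.ι r) ⟶ S.X₃ := Abelian.factorThruCoimage r
  have hC := h₃ m inferInstance
  constructor
  · intro f
    have h0 : kernel.ι r ≫ f = 0 := hA.1 _
    rw [← cokernel.π_desc (kernel.ι r) f h0, hC.1 (cokernel.desc _ f h0), comp_zero]
  · intro f
    obtain ⟨s', hs'⟩ := hA.2 (kernel.ι r ≫ f)
    let s₁ : B ⟶ E := Injective.factorThru s' (kernel.ι r)
    have h1 : kernel.ι r ≫ s₁ = s' := Injective.comp_factorThru _ _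
    have h0 : kernel.ι r ≫ (f - s₁ ≫ cokernel.π ι₀) = 0 := by
      rw [Preadditive.comp_sub, ← Category.assoc, h1, hs', sub_self]
    obtain ⟨t, ht⟩ := hC.2 (cokernel.desc _ _ h0)
    exact ⟨s₁ + cokernel.π (kernel.ι r) ≫ t, by simp [ht]⟩

lemma tors_zero {Z : C} (hZ : IsZero Z) : tors ι₀ Z := by
  intro B i _
  have hB : IsZero B := IsZero.of_mono i hZ
  exact ⟨fun f => hB.eq_of_src _ _, fun f => ⟨0, hB.eq_of_src _ _⟩⟩

instance serre [Mono ι₀] [Injective E] : (tors ι₀).IsSerreClass where
  exists_zero := ⟨0, isZero_zero C, tors_zero ι₀ (isZero_zero C)⟩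
  prop_of_mono f _ h := tors_mono ι₀ f h
  prop_of_epi f _ h := tors_epi ι₀ f h
  prop_X₂_of_shortExact hS h₁ h₃ := tors_ext ι₀ hS h₁ h₃

variable [IsGrothendieckAbelian.{w} C] [Mono ι₀]

attribute [local instance] IsFiltered.isConnected

lemma tors_filtered {J : Type w} [SmallCategory J] [IsFiltered J] {N : J ⥤ C} {Z : C}
    (α : N ⟶ (Functor.const J).obj Z) (hα : IsColimit (Cocone.mk Z α))
    (hN : ∀ j, tors ι₀ (N.obj j)) : tors ι₀ Z := by
  intro B g _
  let η : (Functor.const J).obj B ⟶ (Functor.const J).obj Z := (Functor.const J).map g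
  have hP : IsPullback (colim.map (pullback.fst η α)) (colim.map (pullback.snd η α))
      (colim.map η) (colim.map α) :=
    (IsPullback.of_hasPullback η α).map colim
  have hα' : IsIso (colim.map α) := by
    let e1 := (colimit.isColimit N).coconePointUniqueUpToIso hα
    let e2 := (colimit.isColimit ((Functor.const J).obj Z)).coconePointUniqueUpToIso
      (isColimitConstCocone J Z)
    have : colim.map α = e1.hom ≫ e2.inv := by
      rw [Iso.eq_comp_inv]
      apply colimit.hom_ext
      intro j
      simp [e1, e2]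
      erw [IsColimit.comp_coconePointUniqueUpToIso_hom, Category.comp_id]
    rw [this]; infer_instance
  haveI : IsIso (colim.map (pullback.fst η α)) := hP.isIso_fst_of_isIso
  let e := (colimit.isColimit ((Functor.const J).obj B)).coconePointUniqueUpToIso
    (isColimitConstCocone J B)
  let φ : colimit (pullback η α) ⟶ B := colim.map (pullback.fst η α) ≫ e.hom
  have hφ : ∀ j, colimit.ι (pullback η α) j ≫ φ = (pullback.fst η α).app j := by
    intro j
    simp [φ, e]
    erw [IsColimit.comp_coconePointUniqueUpToIso_hom, Category.comp_id]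
  haveI : IsIso φ := IsIso.comp_isIso' ‹IsIso (colim.map (pullback.fst η α))› inferInstance
  have hsnd : ∀ j, Mono ((pullback.snd η α).app j) := fun j => by
    haveI : Mono (η.app j) := inferInstanceAs (Mono g)
    exact MorphismProperty.of_isPullback (P := MorphismProperty.monomorphisms C)
      (((IsPullback.of_hasPullback η α).map ((evaluation J C).obj j))) this
  have hT := fun j => hN j ((pullback.snd η α).app j) (hsnd j)
  constructor
  · intro f
    rw [← cancel_epi φ, comp_zero]
    apply colimit.hom_ext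
    intro j
    rw [comp_zero]
    exact (hT j).1 _
  · intro f
    choose s hs using fun j => (hT j).2 (colimit.ι (pullback η α) j ≫ φ ≫ f)
    let c : Cocone (pullback η α) := Cocone.mk E
      { app := s
        naturality := fun j k u => by
          show _ = s j ≫ 𝟙 E
          rw [Category.comp_id]
          refine lift_unique ι₀ (hT j).1 _ _ ?_
          rw [Category.assoc, hs, hs, colimit.w_assoc] }
    refine ⟨inv φ ≫ colimit.desc _ c, ?_⟩
    rw [Category.assoc, IsIso.inv_comp_eq]
    apply colimit.hom_ext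
    intro j
    rw [colimit.ι_desc_assoc]
    exact hs j

lemma tors_sigma [Injective E] {J : Type w} (X : J → C) (hX : ∀ j, tors ι₀ (X j)) :
    tors ι₀ (∐ X) := by
  classical
  let N : Finset J →o Subobject (∐ X) :=
    ⟨fun S => S.sup (fun a => imageSubobject (Sigma.ι X a)), fun _ _ h => Finset.sup_mono h⟩
  have hN : ∀ S, tors ι₀ (N S : C) := by
    intro S
    induction S using Finset.induction with
    | empty => exact tors_zero ι₀ ((isZero_zero C).of_iso (Subobject.botCoeIsoZero (B := ∐ X)))
    | insert a S _ ih =>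
      have ha : tors ι₀ (imageSubobject (Sigma.ι X a) : C) := by
        haveI : Epi (factorThruImageSubobject (Sigma.ι X a)) := by
          dsimp [factorThruImageSubobject]; infer_instance
        exact tors_epi ι₀ (factorThruImageSubobject (Sigma.ι X a)) (hX a)
      simp only [N, OrderHom.coe_mk, Finset.sup_insert] at ih ⊢
      set P := imageSubobject (Sigma.ι X a)
      set Q := S.sup fun a => imageSubobject (Sigma.ι X a)
      let d : (P : C) ⊞ (Q : C) ⟶ ((P ⊔ Q : Subobject _) : C) :=
        biprod.desc (Subobject.ofLE _ _ le_sup_left) (Subobject.ofLE _ _ le_sup_right)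
      haveI : Epi d := by
        let I := imageSubobject (d ≫ (P ⊔ Q).arrow)
        have h1 : P ⊔ Q ≤ I := sup_le
          (Subobject.le_of_comm (biprod.inl ≫ factorThruImageSubobject _) (by simp [I, d]))
          (Subobject.le_of_comm (biprod.inr ≫ factorThruImageSubobject _) (by simp [I, d]))
        have h2 : I ≤ P ⊔ Q := imageSubobject_le _ d rfl
        haveI : Epi (factorThruImageSubobject (d ≫ (P ⊔ Q).arrow)) := by
          dsimp [factorThruImageSubobject]; infer_instance
        haveI : IsIso (Subobject.ofLE _ _ h2) := ⟨Subobject.ofLE _ _ h1, by simp, by simp⟩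
        have : d = factorThruImageSubobject (d ≫ (P ⊔ Q).arrow) ≫ Subobject.ofLE _ _ h2 := by
          rw [← cancel_mono (P ⊔ Q).arrow]; simp
        rw [this]; exact epi_comp _ _
      exact tors_epi ι₀ d ((tors ι₀).prop_biprod ha ih)
  let FM : Finset J ⥤ MonoOver (∐ X) := N.monotone.functor ⋙ Subobject.representative
  let c : Cocone (FM ⋙ MonoOver.forget _) :=
    { pt := Over.mk (𝟙 _)
      ι :=
        { app := fun S => Over.homMk (FM.obj S).obj.hom (by simp [MonoOver.forget])
          naturality := fun S T u => by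
            apply Over.OverMorphism.ext
            simp [MonoOver.forget] } }
  haveI : Mono c.pt.hom := by dsimp [c]; infer_instance
  have htop : Subobject.mk c.pt.hom = ⨆ S, Subobject.mk (FM.obj S).obj.hom := by
    have e : ∀ S, Subobject.mk (FM.obj S).obj.hom = N S := fun S => Subobject.mk_arrow _
    simp only [e]
    rw [(Subobject.isIso_iff_mk_eq_top _).1 (by dsimp [c]; infer_instance)]
    symm
    rw [← Subobject.isIso_arrow_iff_eq_top]
    haveI : Epi (⨆ S, N S).arrow := by
      apply Abelian.epi_of_cokernel_π_eq_zero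
      apply Limits.Sigma.hom_ext
      intro a
      have hle : imageSubobject (Sigma.ι X a) ≤ ⨆ S, N S :=
        le_trans (by simp [N]) (le_iSup N {a})
      rw [comp_zero, ← imageSubobject_arrow_comp (Sigma.ι X a), Category.assoc,
        ← Subobject.ofLE_arrow hle, Category.assoc, cokernel.condition, comp_zero, comp_zero]
    exact isIso_of_mono_of_epi _
  exact tors_filtered ι₀ ((Over.forget _).mapCocone c).ι
    (IsGrothendieckAbelian.isColimitMapCoconeOfSubobjectMkEqISup FM c htop) hN

lemma tors_localizing [Injective E] : GabLoc.IsLocalizing.{w} (tors ι₀) where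
  isSerreClass := inferInstance
  isClosedUnderCoproducts J := ⟨fun X hX => by
    obtain ⟨p, hp⟩ := hX
    let e : ∐ (fun j => p.diag.obj ⟨j⟩) ≅ X :=
      (HasColimit.isoOfNatIso Discrete.natIsoFunctor.symm) ≪≫
        (colimit.isColimit p.diag).coconePointUniqueUpToIso p.isColimit
    exact tors_epi ι₀ e.hom (tors_sigma ι₀ _ fun j => hp _)⟩

include ι₀ in
theorem closed_of_subobj [Injective E] (P : ObjectProperty C)
    (hP : ∀ ⦃B Y : C⦄ (i : B ⟶ Y), Mono i → P Y → P B) (hM : GabLoc.IsClosedFor P M) :
    GabLoc.IsClosedFor (GabLoc.locClosure.{w} P) M := by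
  have hPT : P ≤ tors ι₀ := by
    intro Y hY B i hi
    have hB := hP i hi hY
    refine ⟨hM.1 hB, fun f => ?_⟩
    let p := pullback.snd (cokernel.π ι₀) f
    let j : M ⟶ pullback (cokernel.π ι₀) f := pullback.lift ι₀ 0 (by simp)
    haveI : Mono j := mono_of_mono_fac (show j ≫ pullback.fst _ _ = ι₀ from pullback.lift_fst _ _ _)
    have hj : j ≫ p = 0 := pullback.lift_snd _ _ _
    have hse : (ShortComplex.mk j p hj).ShortExact := by
      haveI : Epi p := by dsimp [p]; infer_instance
      refine ShortComplex.ShortExact.mk' ?_ inferInstance inferInstance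
      rw [ShortComplex.exact_iff_exact_up_to_refinements]
      intro A x hx
      have h0 : (x ≫ pullback.fst _ _) ≫ cokernel.π ι₀ = 0 := by
        rw [Category.assoc, pullback.condition, ← Category.assoc]
        simp only [p] at hx
        rw [hx, zero_comp]
      refine ⟨A, 𝟙 A, inferInstance, Abelian.monoLift ι₀ _ h0, ?_⟩
      apply pullback.hom_ext
      · simp only [Category.id_comp, Category.assoc, j]
        erw [pullback.lift_fst, Abelian.monoLift_comp]
      · simp only [Category.id_comp, Category.assoc, j]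
        erw [pullback.lift_snd, comp_zero]
        exact hx
    obtain ⟨⟨r, hr⟩⟩ := (hM.2 j p hj hB hse).exists_splitMono
    let s' := pullback.fst (cokernel.π ι₀) f - r ≫ ι₀
    have hs' : j ≫ s' = 0 := by
      simp only [s', Preadditive.comp_sub, ← Category.assoc, hr]
      rw [Category.id_comp, sub_eq_zero]
      exact pullback.lift_fst _ _ _
    haveI := hse.epi_g
    refine ⟨hse.exact.desc s' hs', ?_⟩
    rw [← cancel_epi p, ← Category.assoc]
    erw [hse.exact.g_desc]
    simp [s', p, pullback.condition]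
  have hTl := tors_localizing.{w} ι₀
  refine ⟨fun Y hY f => (hY _ hTl hPT (𝟙 Y) inferInstance).1 f, fun N Y i p hp hY hse => ?_⟩
  obtain ⟨h1, h2⟩ := hY _ hTl hPT (𝟙 Y) inferInstance
  haveI : Mono i := hse.mono_f
  haveI : Epi p := hse.epi_g
  let g : N ⟶ E := Injective.factorThru ι₀ i
  have hg : i ≫ g = ι₀ := Injective.comp_factorThru _ _
  have h0 : i ≫ g ≫ cokernel.π ι₀ = 0 := by rw [← Category.assoc, hg, cokernel.condition]
  obtain ⟨s, hs⟩ := h2 (hse.exact.desc _ h0)
  have h3 : (g - p ≫ s) ≫ cokernel.π ι₀ = 0 := by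
    rw [Preadditive.sub_comp, Category.assoc, hs]
    erw [hse.exact.g_desc]
    rw [sub_self]
  refine ⟨⟨⟨Abelian.monoLift ι₀ _ h3, ?_⟩⟩⟩
  rw [← cancel_mono ι₀, Category.assoc, Abelian.monoLift_comp, Preadditive.comp_sub,
    ← Category.assoc, hp, zero_comp, sub_zero, hg, Category.id_comp]

omit [Mono ι₀] in
theorem closed_closure (P : ObjectProperty C)
    (hP : ∀ ⦃B Y : C⦄ (i : B ⟶ Y), Mono i → P Y → P B) (hM : GabLoc.IsClosedFor P M) :
    GabLoc.IsClosedFor (GabLoc.locClosure.{w} P) M :=
  closed_of_subobj (Injective.ι M) P hP hM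

end Groth.Agent.GabClosed
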